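import Mathlib
import Cfsg.Agent.Lib.CharTheory.Clifford
import Cfsg.Agent.Lib.CharTheory.Linear
import Cfsg.Agent.Lib.Blocks.BlockBasics

/-!
# A solvable group of order `6048` with an irreducible character of degree `42`
-/

namespace CfsgLib.U33Degrees

open Cfsg CfsgLib.CharTheory

set_option autoImplicit false
set_option linter.unusedVariables false
set_option linter.style.haveILetI false

/-- The module `F₂³ × F₃² × F₂`. -/
abbrev Mod144 := (ZMod 2 × ZMod 2 × ZMod 2) × (ZMod 3 × ZMod 3) × ZMod 2

/-- The complement `C₇ × S₃`. -/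
abbrev K42 := Multiplicative (ZMod 7) × DihedralGroup 3

/-- Multiplication by a root of `x³ + x + 1`. -/
def step8 (v : ZMod 2 × ZMod 2 × ZMod 2) : ZMod 2 × ZMod 2 × ZMod 2 :=
  (v.2.2, v.1 + v.2.2, v.2.1)

def act7 (k : Multiplicative (ZMod 7)) (v : ZMod 2 × ZMod 2 × ZMod 2) : ZMod 2 × ZMod 2 × ZMod 2 :=
  step8^[(Multiplicative.toAdd k).val] v

def act6 : DihedralGroup 3 → ZMod 3 × ZMod 3 → ZMod 3 × ZMod 3
  | .r i, v => (v.1 + i * v.2, v.2)
  | .sr i, v => (-v.1 - i * v.2, v.2)

theorem act7_mul : ∀ (k l : Multiplicative (ZMod 7)) (v : ZMod 2 × ZMod 2 × ZMod 2),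
    act7 (k * l) v = act7 k (act7 l v) := by decide +kernel

theorem act7_add : ∀ (k : Multiplicative (ZMod 7)) (v w : ZMod 2 × ZMod 2 × ZMod 2),
    act7 k (v + w) = act7 k v + act7 k w := by decide +kernel

theorem act6_mul : ∀ (k l : DihedralGroup 3) (v : ZMod 3 × ZMod 3),
    act6 (k * l) v = act6 k (act6 l v) := by decide +kernel

theorem act6_add : ∀ (k : DihedralGroup 3) (v w : ZMod 3 × ZMod 3),
    act6 k (v + w) = act6 k v + act6 k w := by decide +kernel

theorem act7_one (v : ZMod 2 × ZMod 2 × ZMod 2) : act7 1 v = v := rfl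

theorem act6_one : ∀ v : ZMod 3 × ZMod 3, act6 1 v = v := by decide +kernel

def act (k : K42) (v : Mod144) : Mod144 := (act7 k.1 v.1, act6 k.2 v.2.1, v.2.2)

theorem act_one (v : Mod144) : act 1 v = v :=
  Prod.ext (act7_one _) (Prod.ext (act6_one _) rfl)

theorem act_mul (k l : K42) (v : Mod144) : act (k * l) v = act k (act l v) :=
  Prod.ext (act7_mul _ _ _) (Prod.ext (act6_mul _ _ _) rfl)

theorem act_add (k : K42) (v w : Mod144) : act k (v + w) = act k v + act k w :=
  Prod.ext (act7_add _ _ _) (Prod.ext (act6_add _ _ _) rfl)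

/-- The action by automorphisms. -/
def actHom : K42 →* MulAut (Multiplicative Mod144) where
  toFun k :=
    { toFun := fun v => Multiplicative.ofAdd (act k (Multiplicative.toAdd v))
      invFun := fun v => Multiplicative.ofAdd (act k⁻¹ (Multiplicative.toAdd v))
      left_inv := fun v => by
        show Multiplicative.ofAdd (act k⁻¹ (act k _)) = v
        rw [← act_mul, inv_mul_cancel, act_one]; rfl
      right_inv := fun v => by
        show Multiplicative.ofAdd (act k (act k⁻¹ _)) = v
        rw [← act_mul, mul_inv_cancel, act_one]; rfl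
      map_mul' := fun v w => by
        show Multiplicative.ofAdd (act k _) = _
        rw [toAdd_mul, act_add]; rfl }
  map_one' := MulEquiv.ext fun v => by
    show Multiplicative.ofAdd (act 1 _) = v
    rw [act_one]; rfl
  map_mul' k l := MulEquiv.ext fun v => by
    show Multiplicative.ofAdd (act (k * l) _) = Multiplicative.ofAdd (act k (act l _))
    rw [act_mul]

/-- The group. -/
abbrev Grp6048 := Multiplicative Mod144 ⋊[actHom] K42

/-- The exponent of the character. -/
def expo (v : Mod144) : ZMod 6 := 3 * (v.1.1.val : ZMod 6) + 2 * (v.2.1.1.val : ZMod 6)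

theorem expo_add : ∀ v w : (ZMod 2 × ZMod 2 × ZMod 2) × (ZMod 3 × ZMod 3),
    expo (v.1 + w.1, v.2 + w.2, 0) = expo (v.1, v.2, 0) + expo (w.1, w.2, 0) := by decide +kernel

theorem free : ∀ k : K42, k ≠ 1 → ∃ v : (ZMod 2 × ZMod 2 × ZMod 2) × (ZMod 3 × ZMod 3),
    expo (act k (v.1, v.2, 0)) ≠ expo (v.1, v.2, 0) := by decide +kernel

instance : Finite Grp6048 :=
  Finite.of_injective (fun x : Grp6048 => (x.left, x.right)) fun x y h =>
    SemidirectProduct.ext (congrArg Prod.fst h) (congrArg Prod.snd h)

theorem card_grp : Nat.card Grp6048 = 6048 := by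
  rw [SemidirectProduct.card, Nat.card_eq_fintype_card, Nat.card_eq_fintype_card]
  decide +kernel

theorem grp_solvable : Group.IsSolvable Grp6048 := by
  haveI : Group.IsSolvable (Multiplicative Mod144) := inferInstance
  haveI : Group.IsSolvable (DihedralGroup 3) := by
    refine Group.isSolvable_of_ker_le_range (G' := Multiplicative (ZMod 3))
      (G'' := Multiplicative (ZMod 2))
      { toFun := fun i => DihedralGroup.r (Multiplicative.toAdd i)
        map_one' := rfl
        map_mul' := fun i j => rfl }
      { toFun := fun g => match g with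
          | .r _ => Multiplicative.ofAdd 0
          | .sr _ => Multiplicative.ofAdd 1
        map_one' := rfl
        map_mul' := by decide +kernel } ?_
    rintro (i | i) h
    · exact ⟨Multiplicative.ofAdd i, rfl⟩
    · exact absurd h (by decide +revert)
  haveI : Group.IsSolvable K42 := inferInstance
  refine Group.isSolvable_of_ker_le_range (SemidirectProduct.inl (φ := actHom)) SemidirectProduct.rightHom
    ?_
  rw [SemidirectProduct.range_inl_eq_ker_rightHom]

theorem exists_degree [Fintype Grp6048] :
    ∃ χ : IrrCharacter Grp6048, charDegree (χ : Grp6048 → ℂ) = 42 := by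
  classical
  set N := (SemidirectProduct.inl (φ := actHom)).range with hN
  haveI : N.Normal := by
    rw [hN, SemidirectProduct.range_inl_eq_ker_rightHom]
    infer_instance
  haveI : Fintype N := Fintype.ofFinite _
  let e : Multiplicative Mod144 ≃* N :=
    MonoidHom.ofInjective SemidirectProduct.inl_injective
  have hexp : ∀ v w : Mod144, expo (v + w) = expo v + expo w := fun v w => by
    have h := expo_add (v.1, v.2.1) (w.1, w.2.1)
    exact h
  let lam : Multiplicative Mod144 →* ℂˣ :=
    MonoidHom.toHomUnits
      { toFun := fun v => ZMod.stdAddChar (expo (Multiplicative.toAdd v))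
        map_one' := by
          rw [toAdd_one, show expo 0 = 0 by decide, AddChar.map_zero_eq_one]
        map_mul' := fun v w => by rw [toAdd_mul, hexp, AddChar.map_add_eq_mul] }
  set θ : N → ℂ := fun n => ((lam.comp e.symm.toMonoidHom) n : ℂ) with hθ
  have hθi : IsIrrCharacter N θ := isIrrCharacter_linear _
  have hinert : inertia N θ = N := by
    refine le_antisymm (fun g hg => ?_) (le_inertia N (isClassFunction_irr hθi))
    by_contra hgN
    have hr : g.right ≠ 1 := fun h => hgN (by
      rw [hN, SemidirectProduct.range_inl_eq_ker_rightHom, MonoidHom.mem_ker]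
      exact h)
    obtain ⟨v, hv⟩ := free g.right hr
    set a : Multiplicative Mod144 := Multiplicative.ofAdd ((v.1, v.2, 0) : Mod144) with ha
    have h := congrFun ((mem_inertia N).1 hg) (e a)
    have hconj : (⟨g * (e a : Grp6048) * g⁻¹,
        (inferInstance : N.Normal).conj_mem _ (e a).2 g⟩ : N) =
        e (g.left * actHom g.right a * g.left⁻¹) := by
      refine Subtype.ext ?_
      show g * SemidirectProduct.inl a * g⁻¹ = SemidirectProduct.inl _
      ext <;> simp [mul_assoc]
    have h' : θ (⟨g * (e a : Grp6048) * g⁻¹,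
        (inferInstance : N.Normal).conj_mem _ (e a).2 g⟩ : N) = θ (e a) := h
    rw [hconj] at h'
    have hval : ∀ b, θ (e b) = (lam b : ℂ) := fun b => by
      show (lam (e.symm (e b)) : ℂ) = _
      rw [e.symm_apply_apply]
    rw [hval, hval, Units.val_inj, map_mul, map_mul, map_inv, mul_comm (lam g.left), mul_inv_cancel_right] at h'
    refine hv ?_
    have h2 := congrArg Units.val h'
    exact ZMod.injective_stdAddChar h2
  have hirr := isIrrCharacter_indFun_of_inertia_eq N hθi hinert
  refine ⟨⟨_, hirr⟩, ?_⟩
  have hidx : N.index = 42 := by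
    rw [hN, SemidirectProduct.range_inl_eq_ker_rightHom, Subgroup.index_ker,
      MonoidHom.range_eq_top.2 SemidirectProduct.rightHom_surjective, Subgroup.card_top,
      Nat.card_eq_fintype_card]
    decide +kernel
  show ⌊(indFun N θ 1).re⌋₊ = 42
  rw [indFun_apply_one, hidx, show θ 1 = 1 by simp [hθ]]
  norm_num

end CfsgLib.U33Degrees
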